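import Cfsg.Prelude.Def_LinearParabolics
import Mathlib.LinearAlgebra.Matrix.Permutation
import Mathlib.LinearAlgebra.Matrix.Block

/-!
Bruhat decomposition in the general linear group.
-/

set_option autoImplicit false

namespace Cfsg.Agent.UnipGL

open Finset Matrix

variable {F : Type*} [Field F] {n : ℕ}

/-- The permutation matrix sending the `j`-th basis vector to the `σ j`-th one. -/
noncomputable def permGL (σ : Equiv.Perm (Fin n)) : GL (Fin n) F :=
  Matrix.GeneralLinearGroup.mkOfDetNeZero (Matrix.of fun i j => if σ j = i then (1 : F) else 0) (by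
    have e : (Matrix.of fun i j => if σ j = i then (1 : F) else 0) = σ⁻¹.permMatrix F := by
      ext i j
      simp [Equiv.Perm.permMatrix, PEquiv.toMatrix_apply, Equiv.toPEquiv_apply, Equiv.eq_symm_apply, eq_comm]
    rw [e, Matrix.det_permutation]
    rcases Int.units_eq_one_or (Equiv.Perm.sign σ⁻¹) with h | h <;> rw [h] <;> simp)

theorem permGL_apply (σ : Equiv.Perm (Fin n)) (i j : Fin n) :
    ((permGL σ : GL (Fin n) F) : Matrix (Fin n) (Fin n) F) i j = if σ j = i then 1 else 0 := rfl

theorem permGL_mulVec (σ : Equiv.Perm (Fin n)) (v : Fin n → F) (j : Fin n) :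
    (((permGL σ : GL (Fin n) F) : Matrix (Fin n) (Fin n) F) *ᵥ v) (σ j) = v j := by
  simp [Matrix.mulVec, dotProduct, permGL_apply, ite_mul, Finset.sum_ite_eq']

theorem permGL_mul (σ τ : Equiv.Perm (Fin n)) : (permGL (σ * τ) : GL (Fin n) F) = permGL σ * permGL τ := by
  refine Units.ext (Matrix.ext fun i j => ?_)
  simp [Matrix.mul_apply, permGL_apply, Finset.sum_ite_eq]
  congr

/-- The first `m` columns and their pivot rows are those of a monomial matrix. -/
def Reduced (M : Matrix (Fin n) (Fin n) F) (m : ℕ) (f : Fin n → Fin n) : Prop :=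
  ∀ j : Fin n, (j : ℕ) < m → (∀ i, M i j = if i = f j then 1 else 0) ∧ ∀ l, M (f j) l = if l = j then 1 else 0

theorem exists_reduced (g : GL (Fin n) F) : ∀ m ≤ n, ∃ h ∈ upperTriangularGL n F, ∃ k ∈ upperTriangularGL n F,
    ∃ f : Fin n → Fin n, Reduced ((h * g * k : GL (Fin n) F) : Matrix (Fin n) (Fin n) F) m f
  | 0, _ => ⟨1, one_mem _, 1, one_mem _, id, fun j hj => absurd hj (Nat.not_lt_zero _)⟩
  | m + 1, hm => by
    classical
    obtain ⟨h, hh, k, hk, f, hf⟩ := exists_reduced g m (by omega)
    set M := ((h * g * k : GL (Fin n) F) : Matrix (Fin n) (Fin n) F) with hM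
    set c : Fin n := ⟨m, hm⟩ with hc
    have hcol : (univ.filter fun i => M i c ≠ 0).Nonempty := by
      by_contra hne
      refine ((Matrix.isUnit_iff_isUnit_det _).mp (h * g * k).isUnit).ne_zero
        (Matrix.det_eq_zero_of_column_eq_zero c fun i => ?_)
      by_contra h0
      exact hne ⟨i, mem_filter.mpr ⟨mem_univ _, h0⟩⟩
    set r := (univ.filter fun i => M i c ≠ 0).max' hcol with hr
    have hr0 : M r c ≠ 0 := (mem_filter.mp (max'_mem _ hcol)).2
    have hmax : ∀ i, r < i → M i c = 0 := fun i hi => by
      by_contra h0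
      exact absurd (le_max' (univ.filter fun i => M i c ≠ 0) i (mem_filter.mpr ⟨mem_univ _, h0⟩)) (not_le.mpr hi)
    have hpc : ∀ j : Fin n, (j : ℕ) < m → M (f j) c = 0 := fun j hj => by
      rw [(hf j hj).2 c, if_neg]; intro e; rw [← e] at hj; exact lt_irrefl _ hj
    have hrj : ∀ j : Fin n, (j : ℕ) < m → M r j = 0 := fun j hj => by
      rw [(hf j hj).1 r, if_neg]; intro e; exact hr0 (e ▸ hpc j hj)
    set w : Fin n → F := fun i => ((if i = r then 1 else 0) - M i c) / M r c with hw
    set H : Matrix (Fin n) (Fin n) F := 1 + Matrix.of (fun i l => if l = r then w i else 0) with hH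
    have hHt : H.BlockTriangular id := by
      intro i l hl
      have hne : i ≠ l := ne_of_gt hl
      simp only [hH, Matrix.add_apply, Matrix.one_apply_ne hne, Matrix.of_apply, zero_add]
      split_ifs with e
      · subst e
        simp only [id_eq] at hl
        simp [hw, hmax i hl, ne_of_gt hl]
      · rfl
    have hHd : H.det ≠ 0 := by
      rw [Matrix.det_of_isUpperTriangular hHt]
      refine prod_ne_zero_iff.mpr fun i _ => ?_
      simp only [hH, Matrix.add_apply, Matrix.one_apply_eq, Matrix.of_apply]
      split_ifs with e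
      · subst e
        rw [hw]
        simp only [↓reduceIte]
        field_simp
        simp [hr0]
      · simp
    set hu := Matrix.GeneralLinearGroup.mkOfDetNeZero H hHd with hhu
    set M' : Matrix (Fin n) (Fin n) F := H * M with hM'
    have hM'a : ∀ i j, M' i j = M i j + w i * M r j := fun i j => by
      simp [hM', hH, Matrix.add_mul, Matrix.mul_apply, ite_mul]
    set z : Fin n → F := fun l => if c < l then - M' r l else 0 with hz
    set K : Matrix (Fin n) (Fin n) F := 1 + Matrix.of (fun i l => if i = c then z l else 0) with hK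
    have hKt : K.BlockTriangular id := by
      intro i l hl
      simp only [id_eq] at hl
      simp only [hK, Matrix.add_apply, Matrix.one_apply_ne (ne_of_gt hl), Matrix.of_apply, zero_add]
      split_ifs with e
      · subst e; simp [hz, not_lt.mpr hl.le]
      · rfl
    have hKd : K.det ≠ 0 := by
      rw [Matrix.det_of_isUpperTriangular hKt]
      refine prod_ne_zero_iff.mpr fun i _ => ?_
      simp only [hK, Matrix.add_apply, Matrix.one_apply_eq, Matrix.of_apply]
      split_ifs with e
      · subst e; simp [hz]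
      · simp
    set ku := Matrix.GeneralLinearGroup.mkOfDetNeZero K hKd with hku
    refine ⟨hu * h, mul_mem (show hu ∈ upperTriangularGL n F from hHt) hh,
      k * ku, mul_mem hk (show ku ∈ upperTriangularGL n F from hKt), Function.update f c r, ?_⟩
    have hres : ((hu * h * g * (k * ku) : GL (Fin n) F) : Matrix (Fin n) (Fin n) F) = M' * K := by
      rw [hM', hM, show hu * h * g * (k * ku) = hu * (h * g * k) * ku by simp [mul_assoc]]
      rfl
    have hN : ∀ i l, (M' * K) i l = M' i l + M' i c * z l := fun i l => by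
      rw [hK, Matrix.mul_add, Matrix.mul_one, Matrix.add_apply]
      congr 1
      simp [Matrix.mul_apply, mul_ite]
    have hMc : ∀ i, M' i c = if i = r then 1 else 0 := fun i => by
      rw [hM'a, hw]
      simp only
      rw [div_mul_cancel₀ _ hr0]; ring
    rw [hres]
    intro j hj
    rcases Nat.lt_succ_iff_lt_or_eq.mp hj with hlt | heq
    · have hjc : j ≠ c := fun e => by rw [e] at hlt; exact lt_irrefl _ hlt
      have hzj : z j = 0 := by
        rw [hz]; simp only; rw [if_neg]
        exact fun h' => absurd (Fin.lt_def.mp h') (not_lt.mpr hlt.le)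
      rw [Function.update_of_ne hjc]
      refine ⟨fun i => ?_, fun l => ?_⟩
      · rw [hN, hM'a, hrj j hlt, hzj, (hf j hlt).1 i]; ring
      · have hfr : f j ≠ r := fun e => hr0 (e ▸ hpc j hlt)
        have hw0 : w (f j) = 0 := by
          rw [hw]; simp [hfr, hpc j hlt]
        rw [hN, hMc, if_neg hfr, hM'a, hw0, (hf j hlt).2 l]; ring
    · obtain rfl : j = c := Fin.ext heq
      rw [Function.update_self]
      have hzc : z c = 0 := by rw [hz]; simp
      refine ⟨fun i => by rw [hN, hMc, hzc]; ring, fun l => ?_⟩
      rw [hN, hMc r, if_pos rfl, one_mul]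
      rcases lt_trichotomy l c with hl | rfl | hl
      · rw [hz]; simp only; rw [if_neg (not_lt.mpr hl.le), if_neg (ne_of_lt hl), hM'a, hrj l hl]; ring
      · rw [hMc, hzc, if_pos rfl, if_pos rfl]; ring
      · rw [hz]; simp only; rw [if_pos hl, if_neg (ne_of_gt hl)]; ring

/-- Every invertible matrix is `h w k` with `h`, `k` upper triangular and `w` a permutation matrix. -/
theorem exists_bruhat (g : GL (Fin n) F) : ∃ h ∈ upperTriangularGL n F, ∃ k ∈ upperTriangularGL n F,
    ∃ σ : Equiv.Perm (Fin n), g = h * permGL σ * k := by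
  obtain ⟨h, hh, k, hk, f, hf⟩ := exists_reduced g n le_rfl
  have hinj : Function.Injective f := fun j j' e => by
    have h1 := (hf j j.2).2 j'
    have h2 := (hf j' j'.2).1 (f j')
    rw [e, h2, if_pos rfl] at h1
    by_contra hne
    rw [if_neg (Ne.symm hne)] at h1
    exact one_ne_zero h1
  let σ : Equiv.Perm (Fin n) := Equiv.ofBijective f hinj.bijective_of_finite
  refine ⟨h⁻¹, inv_mem hh, k⁻¹, inv_mem hk, σ, ?_⟩
  have e : h * g * k = permGL σ := Units.ext (Matrix.ext fun i j => by
    rw [(hf j j.2).1 i, permGL_apply]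
    simp [σ, eq_comm])
  rw [← e]; simp [mul_assoc]

end Cfsg.Agent.UnipGL
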