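import Mathlib.LinearAlgebra.Vandermonde
import Mathlib.RingTheory.MvPowerSeries.Basic
import Mathlib.Algebra.MvPolynomial.Eval
import Mathlib.SetTheory.Cardinal.Finite

/-!
The Cauchy determinant, read off as an orthogonality relation for the numbers of matrices of natural numbers
with prescribed margins.
-/

set_option autoImplicit false

namespace Cfsg.Agent.UnipGL

open Finset Matrix

variable {n : ℕ}

/-! ## The determinant -/

/-- The coefficients of the products `∏_{l ≠ j} (w - v y_l)`. -/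
def cmat {R : Type*} [CommRing R] (y : Fin n → R) : Matrix (Fin n) (Fin n) R :=
  Matrix.of fun k j => ∑ t ∈ (univ.erase j).powersetCard (k : ℕ), ∏ l ∈ t, (- y l)

theorem projVandermonde_mul_cmat {R : Type*} [CommRing R] (v w y : Fin n → R) :
    Matrix.projVandermonde v w * cmat y = Matrix.of fun i j => ∏ l ∈ univ.erase j, (w i - v i * y l) := by
  ext i j
  have hn : 1 ≤ n := j.pos
  have hcard : (univ.erase j).card = n - 1 := by simp [card_erase_of_mem]
  have e : ∀ l, w i - v i * y l = -(v i * y l) + w i := fun l => by ring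
  simp only [Matrix.mul_apply, Matrix.of_apply, e, prod_add, sum_powerset, hcard, Nat.sub_add_cancel hn, cmat]
  rw [← Fin.sum_univ_eq_sum_range]
  refine sum_congr rfl fun k _ => ?_
  rw [mul_sum]
  refine sum_congr rfl fun t ht => ?_
  obtain ⟨hts, htc⟩ := mem_powersetCard.mp ht
  rw [prod_const, card_sdiff_of_subset hts, hcard, htc,
    show ∏ l ∈ t, -(v i * y l) = v i ^ (k : ℕ) * ∏ l ∈ t, (- y l) by
      rw [← htc, ← prod_const, ← prod_mul_distrib]; exact prod_congr rfl fun l _ => by ring]
  simp only [Matrix.projVandermonde_apply, Fin.val_rev]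
  rw [show n - ((k : ℕ) + 1) = n - 1 - (k : ℕ) by omega]
  ring

theorem prod_erase_sub {R : Type*} [CommRing R] (y : Fin n → R) :
    ∏ i, ∏ l ∈ univ.erase i, (y i - y l) =
      (∏ i : Fin n, ∏ j ∈ Ioi i, (y i - y j)) * ∏ i : Fin n, ∏ j ∈ Ioi i, (y j - y i) := by
  have h : ∀ i : Fin n, univ.erase i = Ioi i ∪ Iio i := fun i => by
    ext l; simp only [mem_erase, mem_univ, and_true, mem_union, mem_Ioi, mem_Iio]; omega
  have hd : ∀ i : Fin n, Disjoint (Ioi i) (Iio i) := fun i => by
    rw [disjoint_left]; intro l h1 h2; simp only [mem_Ioi, mem_Iio] at h1 h2; omega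
  simp only [h, prod_union (hd _), prod_mul_distrib]
  congr 1
  exact prod_comm' (fun a b => by simp)

theorem det_cmat {R : Type*} [CommRing R] (y : Fin n → R) : (cmat y).det = (Matrix.vandermonde y).det := by
  let f : MvPolynomial (Fin n) ℤ →+* R := MvPolynomial.eval₂Hom (Int.castRingHom R) y
  have hgen : (cmat (MvPolynomial.X : Fin n → MvPolynomial (Fin n) ℤ)).det =
      (Matrix.vandermonde (MvPolynomial.X : Fin n → MvPolynomial (Fin n) ℤ)).det := by
    set X' : Fin n → MvPolynomial (Fin n) ℤ := MvPolynomial.X with hX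
    have hdiag : (Matrix.of fun i j => ∏ l ∈ univ.erase j, (X' i - 1 * X' l)) =
        Matrix.diagonal fun i => ∏ l ∈ univ.erase i, (X' i - X' l) := by
      refine Matrix.ext fun i j => ?_
      rcases eq_or_ne i j with rfl | hij
      · simp
      · rw [Matrix.diagonal_apply_ne _ hij, Matrix.of_apply]
        exact prod_eq_zero (mem_erase.mpr ⟨hij, mem_univ i⟩) (by rw [one_mul, sub_self])
    have h := congrArg Matrix.det (projVandermonde_mul_cmat (fun _ => 1) X' X')
    rw [Matrix.det_mul, hdiag, Matrix.det_diagonal, prod_erase_sub, Matrix.det_projVandermonde] at h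
    simp only [one_mul] at h
    rw [Matrix.det_vandermonde]
    refine mul_left_cancel₀ (prod_ne_zero_iff.mpr fun i _ => prod_ne_zero_iff.mpr fun j hj e => ?_) h
    exact (mem_Ioi.mp hj).ne (MvPolynomial.X_injective (sub_eq_zero.mp e))
  have h := congrArg f hgen
  rw [f.map_det, f.map_det] at h
  have e1 : f.mapMatrix (cmat MvPolynomial.X) = cmat y := by
    ext k j; simp [cmat, f, map_sum, map_prod]
  have e2 : f.mapMatrix (Matrix.vandermonde MvPolynomial.X) = Matrix.vandermonde y := by
    ext k j; simp [Matrix.vandermonde_apply, f]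
  rwa [e1, e2] at h

/-- The Cauchy determinant with denominators cleared. -/
theorem det_cauchy {R : Type*} [CommRing R] (x y : Fin n → R) :
    (Matrix.of fun i j => ∏ l ∈ univ.erase j, (1 - x i * y l)).det =
      (Matrix.vandermonde x).det * (Matrix.vandermonde y).det := by
  rw [Matrix.vandermonde_eq_projVandermonde, ← det_cmat y, ← Matrix.det_mul, projVandermonde_mul_cmat]
  simp

/-! ## Margins -/

/-- A matrix supported on `S` with row sums `a` and column sums `b`. -/
def IsMarg (S : Finset (Fin n × Fin n)) (a b : Fin n → ℕ) (A : Fin n × Fin n → ℕ) : Prop :=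
  (∀ e ∉ S, A e = 0) ∧ (∀ i, ∑ j, A (i, j) = a i) ∧ ∀ j, ∑ i, A (i, j) = b j

theorem finite_marg (S : Finset (Fin n × Fin n)) (a b : Fin n → ℕ) : Finite {A // IsMarg S a b A} := by
  refine Finite.of_injective (fun A (e : Fin n × Fin n) =>
    (⟨A.1 e, Nat.lt_succ_of_le ((single_le_sum (fun j _ => Nat.zero_le (A.1 (e.1, j))) (mem_univ e.2)).trans
      (A.2.2.1 e.1).le)⟩ : Fin (a e.1 + 1))) fun A A' h => Subtype.ext (funext fun e => ?_)
  exact congrArg Fin.val (congrFun h e)

/-- The number of matrices supported on `S` with given margins. -/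
noncomputable def margCount (S : Finset (Fin n × Fin n)) (a b : Fin n → ℕ) : ℕ :=
  Nat.card {A // IsMarg S a b A}

/-- The generating series of `margCount S`. -/
noncomputable def margSeries (S : Finset (Fin n × Fin n)) : MvPowerSeries (Fin n ⊕ Fin n) ℤ :=
  fun d => (margCount S (fun i => d (.inl i)) (fun j => d (.inr j)) : ℤ)

theorem coeff_margSeries (S : Finset (Fin n × Fin n)) (d : Fin n ⊕ Fin n →₀ ℕ) :
    MvPowerSeries.coeff d (margSeries S) = margCount S (fun i => d (.inl i)) (fun j => d (.inr j)) := rfl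

/-- The exponent of `x_i y_j`. -/
noncomputable def pairExp (e : Fin n × Fin n) : Fin n ⊕ Fin n →₀ ℕ :=
  Finsupp.single (.inl e.1) 1 + Finsupp.single (.inr e.2) 1

theorem pairExp_inl (e : Fin n × Fin n) (i : Fin n) : pairExp e (.inl i) = if i = e.1 then 1 else 0 := by
  simp [pairExp, Finsupp.single_apply, eq_comm]

theorem pairExp_inr (e : Fin n × Fin n) (j : Fin n) : pairExp e (.inr j) = if j = e.2 then 1 else 0 := by
  simp [pairExp, Finsupp.single_apply, eq_comm]

theorem margCount_split {S : Finset (Fin n × Fin n)} {e : Fin n × Fin n} (he : e ∈ S) (d : Fin n ⊕ Fin n →₀ ℕ) :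
    margCount S (fun i => d (.inl i)) (fun j => d (.inr j)) =
      margCount (S.erase e) (fun i => d (.inl i)) (fun j => d (.inr j)) +
        if pairExp e ≤ d then margCount S (fun i => (d - pairExp e) (.inl i)) (fun j => (d - pairExp e) (.inr j))
        else 0 := by
  classical
  haveI := finite_marg S (fun i => d (.inl i)) (fun j => d (.inr j))
  set T := {A // IsMarg S (fun i => d (.inl i)) (fun j => d (.inr j)) A}
  have h0 : Nat.card T = Nat.card {A : T // A.1 e = 0} + Nat.card {A : T // ¬ A.1 e = 0} := by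
    rw [← Nat.card_sum]; exact (Nat.card_congr (Equiv.sumCompl fun A : T => A.1 e = 0)).symm
  rw [margCount, h0]
  congr 1
  · refine Nat.card_congr ⟨fun A => ⟨A.1.1, fun z hz => ?_, A.1.2.2⟩, fun A => ⟨⟨A.1, fun z hz =>
      A.2.1 z fun h => hz (mem_of_mem_erase h), A.2.2⟩, A.2.1 e (notMem_erase e S)⟩, fun A => rfl, fun A => rfl⟩
    by_cases hze : z = e
    · exact hze ▸ A.2
    · exact A.1.2.1 z fun h => hz (mem_erase.mpr ⟨hze, h⟩)
  · split_ifs with hle
    · have hl : ∀ i, ∑ j, (if (i, j) = e then 1 else 0 : ℕ) = pairExp e (.inl i) := fun i => by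
        rw [pairExp_inl]
        rcases e with ⟨e1, e2⟩
        by_cases h : i = e1 <;> simp [h, Prod.ext_iff]
      have hr : ∀ j, ∑ i, (if (i, j) = e then 1 else 0 : ℕ) = pairExp e (.inr j) := fun j => by
        rw [pairExp_inr]
        rcases e with ⟨e1, e2⟩
        by_cases h : j = e2 <;> simp [h, Prod.ext_iff]
      refine Nat.card_congr
        ⟨fun A => ⟨fun z => A.1.1 z - if z = e then 1 else 0, fun z hz => by simp [A.1.2.1 z hz], ?_, ?_⟩,
         fun B => ⟨⟨fun z => B.1 z + if z = e then 1 else 0, fun z hz => ?_, ?_, ?_⟩, by simp⟩, ?_, ?_⟩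
      · intro i
        dsimp only
        rw [Finsupp.tsub_apply, ← hl i, show d (.inl i) = ∑ j, A.1.1 (i, j) from (A.1.2.2.1 i).symm, ← sum_tsub_distrib]
        intro j _; split_ifs with h
        · rw [h]; exact Nat.one_le_iff_ne_zero.mpr A.2
        · exact Nat.zero_le _
      · intro j
        dsimp only
        rw [Finsupp.tsub_apply, ← hr j, show d (.inr j) = ∑ i, A.1.1 (i, j) from (A.1.2.2.2 j).symm, ← sum_tsub_distrib]
        intro i _; split_ifs with h
        · rw [h]; exact Nat.one_le_iff_ne_zero.mpr A.2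
        · exact Nat.zero_le _
      · dsimp only
        rw [B.2.1 z hz, if_neg fun h => hz (by rw [h]; exact he)]
      · intro i
        dsimp only
        rw [sum_add_distrib, B.2.2.1 i, hl]
        simp only [Finsupp.tsub_apply]
        exact Nat.sub_add_cancel (hle _)
      · intro j
        dsimp only
        rw [sum_add_distrib, B.2.2.2 j, hr]
        simp only [Finsupp.tsub_apply]
        exact Nat.sub_add_cancel (hle _)
      · intro A
        refine Subtype.ext (Subtype.ext (funext fun z => ?_))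
        show A.1.1 z - _ + _ = _
        refine Nat.sub_add_cancel ?_
        split_ifs with h
        · rw [h]; exact Nat.one_le_iff_ne_zero.mpr A.2
        · exact Nat.zero_le _
      · intro B
        exact Subtype.ext (funext fun z => Nat.add_sub_cancel _ _)
    · refine Nat.card_eq_zero.mpr (Or.inl ⟨fun A => hle fun z => ?_⟩)
      have hA : 1 ≤ A.1.1 (e.1, e.2) := Nat.one_le_iff_ne_zero.mpr A.2
      rcases z with i | j
      · rw [pairExp_inl]; split_ifs with h
        · exact (hA.trans (single_le_sum (fun j _ => Nat.zero_le (A.1.1 (e.1, j))) (mem_univ e.2))).trans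
            ((A.1.2.2.1 e.1).trans (by rw [h])).le
        · exact Nat.zero_le _
      · rw [pairExp_inr]; split_ifs with h
        · exact (hA.trans (single_le_sum (fun i _ => Nat.zero_le (A.1.1 (i, e.2))) (mem_univ e.1))).trans
            ((A.1.2.2.2 e.2).trans (by rw [h])).le
        · exact Nat.zero_le _

/-- The monomial `x_i y_j`. -/
noncomputable def pairMon (e : Fin n × Fin n) : MvPowerSeries (Fin n ⊕ Fin n) ℤ :=
  MvPowerSeries.X (.inl e.1) * MvPowerSeries.X (.inr e.2)

theorem margSeries_mul_step {S : Finset (Fin n × Fin n)} {e : Fin n × Fin n} (he : e ∈ S) :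
    (1 - pairMon e) * margSeries S = margSeries (S.erase e) := by
  classical
  ext d
  rw [pairMon, MvPowerSeries.X_def, MvPowerSeries.X_def, MvPowerSeries.monomial_mul_monomial, one_mul,
    sub_mul, one_mul, map_sub, MvPowerSeries.coeff_monomial_mul, coeff_margSeries, coeff_margSeries,
    coeff_margSeries, margCount_split he d, ← pairExp]
  split_ifs <;> simp

theorem margCount_empty (a b : Fin n → ℕ) :
    margCount (∅ : Finset (Fin n × Fin n)) a b = if a = 0 ∧ b = 0 then 1 else 0 := by
  rw [margCount]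
  split_ifs with h
  · obtain ⟨rfl, rfl⟩ := h
    refine Nat.card_eq_one_iff_unique.mpr ⟨⟨fun A A' => Subtype.ext (funext fun e => ?_)⟩,
      ⟨⟨0, fun e _ => rfl, fun i => by simp, fun j => by simp⟩⟩⟩
    rw [A.2.1 e (by simp), A'.2.1 e (by simp)]
  · refine Nat.card_eq_zero.mpr (Or.inl ⟨fun A => h ?_⟩)
    have hz : ∀ e, A.1 e = 0 := fun e => A.2.1 e (by simp)
    exact ⟨funext fun i => by simp [← A.2.2.1 i, hz], funext fun j => by simp [← A.2.2.2 j, hz]⟩

theorem prod_mul_margSeries (S : Finset (Fin n × Fin n)) : (∏ e ∈ S, (1 - pairMon e)) * margSeries S = 1 := by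
  classical
  induction S using Finset.induction_on with
  | empty =>
    ext d
    rw [prod_empty, one_mul, coeff_margSeries, margCount_empty, MvPowerSeries.coeff_one]
    by_cases hd : d = 0
    · subst hd; simp; rfl
    · rw [if_neg hd, if_neg]
      · rfl
      · exact fun h => hd (Finsupp.ext fun z => by
          rcases z with i | j
          · exact congrFun h.1 i
          · exact congrFun h.2 j)
  | insert e S he ih =>
    rw [prod_insert he, mul_comm (1 - pairMon e), mul_assoc, margSeries_mul_step (mem_insert_self e S),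
      erase_insert he, ih]

/-- The graph of a permutation. -/
def graph (σ : Equiv.Perm (Fin n)) : Finset (Fin n × Fin n) := univ.filter fun e => σ e.2 = e.1

theorem margCount_graph (σ : Equiv.Perm (Fin n)) (a b : Fin n → ℕ) :
    margCount (graph σ) a b = if ∀ i, a (σ i) = b i then 1 else 0 := by
  have hval : ∀ A, IsMarg (graph σ) a b A → ∀ i, A (σ i, i) = b i ∧ A (σ i, i) = a (σ i) := by
    intro A hA i
    constructor
    · rw [← hA.2.2 i, sum_eq_single (σ i) (fun z _ hz => hA.1 _ (by simp [graph, Ne.symm hz])) (by simp)]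
    · rw [← hA.2.1 (σ i), sum_eq_single i (fun z _ hz => hA.1 _ (by simp [graph, hz])) (by simp)]
  rw [margCount]
  split_ifs with h
  · refine Nat.card_eq_one_iff_unique.mpr ⟨⟨fun A A' => Subtype.ext (funext fun e => ?_)⟩,
      ⟨⟨fun e => if σ e.2 = e.1 then b e.2 else 0, fun e he => if_neg (by simpa [graph] using he), fun i => ?_, fun j => ?_⟩⟩⟩
    · by_cases he : σ e.2 = e.1
      · have e' : e = (σ e.2, e.2) := Prod.ext he.symm rfl
        rw [e', (hval A.1 A.2 e.2).1, (hval A'.1 A'.2 e.2).1]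
      · rw [A.2.1 e (by simp [graph, he]), A'.2.1 e (by simp [graph, he])]
    · rw [sum_eq_single (σ⁻¹ i) (fun z _ hz => if_neg fun e => hz (σ.injective (by simpa using e))) (by simp)]
      simp [← h]
    · rw [sum_eq_single (σ j) (fun z _ hz => if_neg (Ne.symm hz)) (by simp)]
      simp
  · refine Nat.card_eq_zero.mpr (Or.inl ⟨fun A => h fun i => ?_⟩)
    rw [← (hval A.1 A.2 i).1, (hval A.1 A.2 i).2]

theorem det_pair_eq : (Matrix.of fun i j : Fin n => ∏ l ∈ univ.erase j,
      (1 - (MvPowerSeries.X (.inl i) : MvPowerSeries (Fin n ⊕ Fin n) ℤ) * MvPowerSeries.X (.inr l))).det =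
    (∏ e : Fin n × Fin n, (1 - pairMon e)) * ∑ σ : Equiv.Perm (Fin n), ((Equiv.Perm.sign σ : ℤ) : MvPowerSeries (Fin n ⊕ Fin n) ℤ) * margSeries (graph σ) := by
  classical
  rw [Matrix.det_apply', mul_sum]
  refine sum_congr rfl fun σ _ => ?_
  rw [mul_left_comm, ← prod_sdiff (subset_univ (graph σ)), mul_assoc _ (∏ e ∈ graph σ, _),
    prod_mul_margSeries, mul_one]
  congr 1
  simp only [Matrix.of_apply]
  rw [prod_sigma']
  refine prod_bij (fun z _ => (σ z.1, z.2)) ?_ ?_ ?_ ?_
  · intro z hz
    simp only [mem_sigma, mem_univ, true_and, mem_erase, and_true] at hz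
    simp [graph, hz]
  · rintro ⟨i, l⟩ _ ⟨i', l'⟩ _ e
    simp only [Prod.mk.injEq, EmbeddingLike.apply_eq_iff_eq] at e
    obtain ⟨rfl, rfl⟩ := e
    rfl
  · rintro ⟨a, l⟩ he
    refine ⟨⟨σ⁻¹ a, l⟩, ?_, by simp⟩
    simp only [mem_sdiff, mem_univ, true_and, graph, mem_filter] at he
    simp only [mem_sigma, mem_univ, true_and, mem_erase, and_true]
    exact fun e => he (by simp [e])
  · intro z _; rfl

/-- The orthogonality relation. -/
theorem sum_sign_margCount (a b : Fin n → ℕ) :
    ∑ κ : Equiv.Perm (Fin n), ∑ μ : Equiv.Perm (Fin n),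
        (Equiv.Perm.sign κ : ℤ) * (Equiv.Perm.sign μ : ℤ) *
          (if (∀ i, (κ i : ℕ) ≤ a i) ∧ (∀ i, (μ i : ℕ) ≤ b i) then
            (margCount univ (fun i => a i - (κ i : ℕ)) (fun i => b i - (μ i : ℕ)) : ℤ) else 0) =
      ∑ σ : Equiv.Perm (Fin n), (Equiv.Perm.sign σ : ℤ) * (if ∀ i, a (σ i) = b i then 1 else 0) := by
  classical
  set x : Fin n → MvPowerSeries (Fin n ⊕ Fin n) ℤ := fun i => MvPowerSeries.X (.inl i) with hx
  set y : Fin n → MvPowerSeries (Fin n ⊕ Fin n) ℤ := fun i => MvPowerSeries.X (.inr i) with hy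
  have key : margSeries univ * ((Matrix.vandermonde x).det * (Matrix.vandermonde y).det) =
      ∑ σ : Equiv.Perm (Fin n), ((Equiv.Perm.sign σ : ℤ) : MvPowerSeries (Fin n ⊕ Fin n) ℤ) * margSeries (graph σ) := by
    rw [← det_cauchy x y, hx, hy, det_pair_eq, ← mul_assoc, mul_comm (margSeries univ), prod_mul_margSeries, one_mul]
  have hdet : ∀ z : Fin n → MvPowerSeries (Fin n ⊕ Fin n) ℤ, (Matrix.vandermonde z).det =
      ∑ κ : Equiv.Perm (Fin n), ((Equiv.Perm.sign κ : ℤ) : MvPowerSeries (Fin n ⊕ Fin n) ℤ) * ∏ i, z i ^ (κ i : ℕ) := fun z => by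
    rw [← Matrix.det_transpose, Matrix.det_apply']
    rfl
  rw [hdet, hdet, sum_mul_sum, mul_sum] at key
  simp_rw [mul_sum] at key
  set d : Fin n ⊕ Fin n →₀ ℕ := Finsupp.equivFunOnFinite.symm (Sum.elim a b) with hd
  have h := congrArg (MvPowerSeries.coeff d) key
  simp only [map_sum] at h
  have hl : ∀ σ : Equiv.Perm (Fin n), MvPowerSeries.coeff d (((Equiv.Perm.sign σ : ℤ) : MvPowerSeries (Fin n ⊕ Fin n) ℤ) * margSeries (graph σ)) =
      (Equiv.Perm.sign σ : ℤ) * (if ∀ i, a (σ i) = b i then 1 else 0) := fun σ => by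
    rw [show ((Equiv.Perm.sign σ : ℤ) : MvPowerSeries (Fin n ⊕ Fin n) ℤ) = MvPowerSeries.C (Equiv.Perm.sign σ : ℤ) from (map_intCast _ _).symm,
      MvPowerSeries.coeff_C_mul, coeff_margSeries, margCount_graph, hd]
    simp
  rw [sum_congr rfl fun σ _ => hl σ] at h
  rw [← h]
  refine sum_congr rfl fun κ _ => sum_congr rfl fun μ _ => ?_
  set m : Fin n ⊕ Fin n →₀ ℕ := Finsupp.equivFunOnFinite.symm (Sum.elim (fun i => (κ i : ℕ)) (fun i => (μ i : ℕ))) with hm
  have hmono : (∏ i, x i ^ (κ i : ℕ)) * ∏ i, y i ^ (μ i : ℕ) = MvPowerSeries.monomial m 1 := by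
    simp only [hx, hy, MvPowerSeries.X_pow_eq, MvPowerSeries.prod_monomial, prod_const_one,
      MvPowerSeries.monomial_mul_monomial, one_mul]
    refine congrArg (fun q => MvPowerSeries.monomial q (1 : ℤ)) ?_
    refine Finsupp.ext fun z => ?_
    rcases z with i | i <;>
      simp [hm, Finsupp.finsetSum_apply, Finsupp.single_apply]
  rw [show margSeries univ * (((Equiv.Perm.sign κ : ℤ) : MvPowerSeries (Fin n ⊕ Fin n) ℤ) * (∏ i, x i ^ (κ i : ℕ)) *
      (((Equiv.Perm.sign μ : ℤ) : MvPowerSeries (Fin n ⊕ Fin n) ℤ) * ∏ i, y i ^ (μ i : ℕ))) =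
      (((Equiv.Perm.sign κ : ℤ) * (Equiv.Perm.sign μ : ℤ) : ℤ) : MvPowerSeries (Fin n ⊕ Fin n) ℤ) * (MvPowerSeries.monomial m 1 * margSeries univ) by
    rw [← hmono, Int.cast_mul]; ring,
    ← map_intCast (MvPowerSeries.C (σ := Fin n ⊕ Fin n) (R := ℤ)), MvPowerSeries.coeff_C_mul,
    MvPowerSeries.coeff_monomial_mul, coeff_margSeries, one_mul, Int.cast_id]
  have hle : m ≤ d ↔ (∀ i, (κ i : ℕ) ≤ a i) ∧ (∀ i, (μ i : ℕ) ≤ b i) := by
    refine ⟨fun h => ⟨fun i => by simpa [hm, hd] using h (.inl i), fun i => by simpa [hm, hd] using h (.inr i)⟩,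
      fun h z => ?_⟩
    rcases z with i | i
    · simpa [hm, hd] using h.1 i
    · simpa [hm, hd] using h.2 i
  by_cases hmd : m ≤ d
  · rw [if_pos hmd, if_pos (hle.mp hmd)]
    simp [hm, hd]
  · rw [if_neg hmd, if_neg fun h => hmd (hle.mpr h)]

theorem sum_sign_margCount_strictMono {a b : Fin n → ℕ} (ha : StrictMono a) (hb : StrictMono b) :
    ∑ κ : Equiv.Perm (Fin n), ∑ μ : Equiv.Perm (Fin n),
        (Equiv.Perm.sign κ : ℤ) * (Equiv.Perm.sign μ : ℤ) *
          (if (∀ i, (κ i : ℕ) ≤ a i) ∧ (∀ i, (μ i : ℕ) ≤ b i) then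
            (margCount univ (fun i => a i - (κ i : ℕ)) (fun i => b i - (μ i : ℕ)) : ℤ) else 0) =
      if a = b then 1 else 0 := by
  classical
  rw [sum_sign_margCount, sum_eq_single 1 (fun σ _ hσ => ?_) (by simp)]
  · by_cases h : a = b
    · simp [h]
    · rw [if_neg h, if_neg fun e => h (funext fun i => by simpa using e i), mul_zero]
  · rw [if_neg (fun h => hσ ?_), mul_zero]
    have hmono : StrictMono σ := fun i j hij => ha.lt_iff_lt.mp (by rw [h i, h j]; exact hb hij)
    exact Equiv.ext fun i => congrFun (hmono.range_inj strictMono_id |>.mp (by simp [Set.range_id, σ.surjective.range_eq])) i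

end Cfsg.Agent.UnipGL
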