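import Cfsg.Agent.Lib.UnipGL.Bruhat
import Cfsg.Agent.Lib.UnipGL.Cauchy
import Cfsg.Agent.S2420
import Mathlib.GroupTheory.GroupAction.Quotient

/-!
Double cosets of parabolic subgroups of the general linear group and of Young subgroups, counted by matrices of
natural numbers with given margins.
-/

set_option autoImplicit false
set_option linter.style.haveILetI false

namespace Cfsg.Agent.UnipGL

open Finset Matrix Cfsg

/-- Orbit counting on pairs of cosets. -/
theorem sum_fixed_mul_fixed {G : Type*} [Group G] [Fintype G] (H K : Subgroup G) {S : Type*} (inv : G → S)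
    (hinv : ∀ g g', inv g = inv g' ↔ ∃ h ∈ H, ∃ k ∈ K, g' = h * g * k) :
    ∑ g : G, fixedPointCharacter H g * fixedPointCharacter K g =
      (Nat.card G : ℂ) * (Nat.card (Set.range inv) : ℂ) := by
  classical
  haveI := Fintype.ofFinite (G ⧸ H)
  haveI := Fintype.ofFinite (G ⧸ K)
  set X := (G ⧸ H) × (G ⧸ K)
  have hfix : ∀ g : G, fixedPointCharacter H g * fixedPointCharacter K g =
      (Fintype.card (MulAction.fixedBy X g) : ℂ) := fun g => by
    simp only [fixedPointCharacter, ← Nat.cast_mul, ← Nat.card_prod, ← Nat.card_eq_fintype_card]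
    congr 1
    exact Nat.card_congr
      ⟨fun z => ⟨(z.1.1, z.2.1), Prod.ext z.1.2 z.2.2⟩,
        fun z => (⟨z.1.1, congrArg Prod.fst z.2⟩, ⟨z.1.2, congrArg Prod.snd z.2⟩), fun z => rfl, fun z => rfl⟩
  haveI := Fintype.ofFinite (Quotient (MulAction.orbitRel G X))
  rw [Finset.sum_congr rfl fun g _ => hfix g, ← Nat.cast_sum,
    MulAction.sum_card_fixedBy_eq_card_orbits_mul_card_group, ← Nat.card_eq_fintype_card, ← Nat.card_eq_fintype_card,
    Nat.cast_mul, mul_comm]
  congr 2
  have hmk : ∀ a b a' b' : G, (a : G ⧸ H) = a' → (b : G ⧸ K) = b' → inv (a⁻¹ * b) = inv (a'⁻¹ * b') := by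
    intro a b a' b' ha hb
    exact (hinv _ _).mpr ⟨(a⁻¹ * a')⁻¹, inv_mem (QuotientGroup.eq.mp ha), b⁻¹ * b', QuotientGroup.eq.mp hb,
      by simp [mul_assoc]⟩
  have hrel : ∀ a b a' b' : G,
      MulAction.orbitRel G X ((a : G ⧸ H), (b : G ⧸ K)) ((a' : G ⧸ H), (b' : G ⧸ K)) ↔ inv (a⁻¹ * b) = inv (a'⁻¹ * b') := by
    intro a b a' b'
    rw [MulAction.orbitRel_apply, MulAction.mem_orbit_iff]
    constructor
    · rintro ⟨g, hg⟩
      have := hmk (g * a') (g * b') a b (congrArg Prod.fst hg) (congrArg Prod.snd hg)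
      simpa [mul_assoc] using this.symm
    · intro e
      obtain ⟨h, hh, k, hk, e⟩ := (hinv _ _).mp e.symm
      refine ⟨a * h * a'⁻¹, ?_⟩
      refine Prod.ext (QuotientGroup.eq.mpr (show (a * h * a'⁻¹ * a')⁻¹ * a ∈ H from ?_))
        (QuotientGroup.eq.mpr (show (a * h * a'⁻¹ * b')⁻¹ * b ∈ K from ?_))
      · simpa [mul_assoc] using inv_mem hh
      · have e2 : (a * h * a'⁻¹ * b')⁻¹ * b = k := by
          have : b = a * h * a'⁻¹ * b' * k := by
            calc b = a * (a⁻¹ * b) := by simp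
              _ = _ := by rw [e]; simp [mul_assoc]
          rw [this]; simp [mul_assoc]
        rw [e2]; exact hk
  refine Nat.card_eq_of_bijective (Quotient.lift (fun z : X => (⟨inv (z.1.out⁻¹ * z.2.out), Set.mem_range_self _⟩ : Set.range inv))
    fun z z' hz => Subtype.ext ?_) ⟨?_, ?_⟩
  · refine (hrel _ _ _ _).mp ?_
    simpa using hz
  · rintro ⟨z⟩ ⟨z'⟩ e
    refine Quotient.sound ?_
    have := (hrel z.1.out z.2.out z'.1.out z'.2.out).mpr (congrArg Subtype.val e)
    rw [QuotientGroup.out_eq', QuotientGroup.out_eq', QuotientGroup.out_eq', QuotientGroup.out_eq'] at this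
    exact this
  · rintro ⟨_, g, rfl⟩
    refine ⟨⟦((1 : G), (g : G ⧸ K))⟧, Subtype.ext ?_⟩
    show inv _ = inv g
    have h1 := hmk (((1 : G) : G ⧸ H)).out ((g : G ⧸ K)).out 1 g (QuotientGroup.out_eq' _) (QuotientGroup.out_eq' _)
    simpa using h1

variable {n : ℕ}

/-- The positions of the blocks of a composition. -/
def compEquiv (μ : Fin n → ℕ) (hμ : ∑ i, μ i = n) : ((a : Fin n) × Fin (μ a)) ≃ Fin n :=
  finSigmaFinEquiv.trans (finCongr hμ)

/-- The block label, as an element of `Fin n`. -/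
def compBlock (μ : Fin n → ℕ) (hμ : ∑ i, μ i = n) (i : Fin n) : Fin n := ((compEquiv μ hμ).symm i).1

theorem compLabel_eq (μ : Fin n → ℕ) (hμ : ∑ i, μ i = n) (i : Fin n) : compLabel μ i = compBlock μ hμ i := by
  have h := Cfsg.Agent.S2420.lab μ hμ ((compEquiv μ hμ).symm i)
  rwa [show (finSigmaFinEquiv.trans (finCongr hμ)) ((compEquiv μ hμ).symm i) = i from
    (compEquiv μ hμ).apply_symm_apply i] at h

/-- The elements with a given label. -/
def blockEquiv (μ : Fin n → ℕ) (hμ : ∑ i, μ i = n) (a : Fin n) : {i : Fin n // compBlock μ hμ i = a} ≃ Fin (μ a) :=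
  ((compEquiv μ hμ).symm.subtypeEquiv fun _ => Iff.rfl).trans (Equiv.sigmaSubtype a)

theorem card_block (μ : Fin n → ℕ) (hμ : ∑ i, μ i = n) (a : Fin n) :
    (univ.filter fun i => compBlock μ hμ i = a).card = μ a := by
  rw [← Fintype.card_subtype, Fintype.card_congr (blockEquiv μ hμ a), Fintype.card_fin]

theorem compLabel_mono (μ : Fin n → ℕ) : Monotone (compLabel μ) := fun i j h =>
  card_le_card fun k hk => mem_filter.mpr ⟨mem_univ _, (mem_filter.mp hk).2.trans (Fin.le_def.mp h)⟩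

theorem upper_le_parabolicGL (F : Type*) [Field F] (μ : Fin n → ℕ) : upperTriangularGL n F ≤ parabolicGL n F μ :=
  fun _ hg _ _ h => hg (lt_of_not_ge fun hle => (not_le.mpr h) (compLabel_mono μ hle))

/-! ## The invariant -/

/-- How many positions with label `r` go to positions with label `p`. -/
def youngInv (a b : Fin n → Fin n) (σ : Equiv.Perm (Fin n)) : Fin n × Fin n → ℕ :=
  fun e => (univ.filter fun j => a (σ j) = e.1 ∧ b j = e.2).card

theorem youngInv_isMarg {α β : Fin n → ℕ} {a b : Fin n → Fin n} (ha : ∀ p, (univ.filter fun i => a i = p).card = α p)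
    (hb : ∀ p, (univ.filter fun i => b i = p).card = β p) (σ : Equiv.Perm (Fin n)) :
    IsMarg univ α β (youngInv a b σ) := by
  refine ⟨fun e he => absurd (mem_univ e) he, fun p => ?_, fun r => ?_⟩
  · rw [← ha p]
    calc ∑ r, youngInv a b σ (p, r) = (univ.filter fun j => a (σ j) = p).card := by
          rw [card_eq_sum_card_fiberwise (f := b) (t := univ) (fun _ _ => mem_univ _)]
          simp [youngInv, filter_filter]
      _ = _ := card_equiv σ (fun j => by simp)
  · rw [← hb r]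
    rw [card_eq_sum_card_fiberwise (f := fun j => a (σ j)) (s := univ.filter fun i => b i = r) (t := univ)
      (fun _ _ => mem_univ _)]
    simp [youngInv, filter_filter, and_comm]

theorem exists_youngInv {α β : Fin n → ℕ} {a b : Fin n → Fin n} (ha : ∀ p, (univ.filter fun i => a i = p).card = α p)
    (hb : ∀ p, (univ.filter fun i => b i = p).card = β p) {A : Fin n × Fin n → ℕ} (hA : IsMarg univ α β A) :
    ∃ σ, youngInv a b σ = A := by
  classical
  let T := (e : Fin n × Fin n) × Fin (A e)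
  have hfst : ∀ p, Fintype.card {t : T // t.1.1 = p} = α p := fun p => by
    rw [Fintype.card_congr (⟨fun t => ⟨t.1.1.2, Fin.cast (congrArg A (Prod.ext t.2 rfl)) t.1.2⟩,
        fun z => ⟨⟨(p, z.1), z.2⟩, rfl⟩, fun ⟨⟨⟨p', r⟩, k⟩, h⟩ => by cases h; rfl, fun z => rfl⟩ :
        {t : T // t.1.1 = p} ≃ (r : Fin n) × Fin (A (p, r))), Fintype.card_sigma]
    simpa using hA.2.1 p
  have hsnd : ∀ r, Fintype.card {t : T // t.1.2 = r} = β r := fun r => by
    rw [Fintype.card_congr (⟨fun t => ⟨t.1.1.1, Fin.cast (by rw [show t.1.1 = (t.1.1.1, r) from Prod.ext rfl t.2]) t.1.2⟩,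
        fun z => ⟨⟨(z.1, r), z.2⟩, rfl⟩, fun ⟨⟨⟨p', r'⟩, k⟩, h⟩ => by cases h; rfl, fun z => rfl⟩ :
        {t : T // t.1.2 = r} ≃ (p : Fin n) × Fin (A (p, r))), Fintype.card_sigma]
    simpa using hA.2.2 r
  let u : T ≃ Fin n := Equiv.ofFiberEquiv (f := fun t : T => t.1.2) (g := b) fun r =>
    Fintype.equivOfCardEq (by rw [hsnd, Fintype.card_subtype, hb])
  let v : T ≃ Fin n := Equiv.ofFiberEquiv (f := fun t : T => t.1.1) (g := a) fun p =>
    Fintype.equivOfCardEq (by rw [hfst, Fintype.card_subtype, ha])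
  have hu : ∀ t, b (u t) = t.1.2 := fun t => Equiv.ofFiberEquiv_map _ t
  have hv : ∀ t, a (v t) = t.1.1 := fun t => Equiv.ofFiberEquiv_map _ t
  refine ⟨u.symm.trans v, funext fun e => ?_⟩
  have h : (univ.filter fun t : T => t.1 = e).card = youngInv a b (u.symm.trans v) e :=
    card_equiv u (fun t => by simp [hu, hv, Prod.ext_iff])
  rw [← h, ← Fintype.card_subtype, Fintype.card_congr (Equiv.sigmaSubtype e), Fintype.card_fin]

/-- The labels are kept by the elements of a Young subgroup. -/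
def Keeps (a : Fin n → Fin n) (σ : Equiv.Perm (Fin n)) : Prop := ∀ i, a (σ i) = a i

theorem youngInv_eq_iff (a b : Fin n → Fin n) (σ σ' : Equiv.Perm (Fin n)) :
    youngInv a b σ = youngInv a b σ' ↔ ∃ h, Keeps a h ∧ ∃ k, Keeps b k ∧ σ' = h * σ * k := by
  classical
  constructor
  · intro e
    have he : ∀ z : Fin n × Fin n, Fintype.card {j // (a (σ' j), b j) = z} = Fintype.card {j // (a (σ j), b j) = z} := fun z => by
      rw [Fintype.card_subtype, Fintype.card_subtype]
      have := congrFun e z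
      simp only [youngInv] at this
      simp only [Prod.ext_iff]
      exact this.symm
    let k : Equiv.Perm (Fin n) := Equiv.ofFiberEquiv (f := fun j => (a (σ' j), b j)) (g := fun j => (a (σ j), b j))
      fun z => Fintype.equivOfCardEq (he z)
    have hk : ∀ j, (a (σ (k j)), b (k j)) = (a (σ' j), b j) := fun j =>
      Equiv.ofFiberEquiv_map (f := fun j => (a (σ' j), b j)) (g := fun j => (a (σ j), b j)) _ j
    refine ⟨σ' * k⁻¹ * σ⁻¹, fun i => ?_, k, fun j => congrArg Prod.snd (hk j), by simp [mul_assoc]⟩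
    have := congrArg Prod.fst (hk (k⁻¹ (σ⁻¹ i)))
    simpa using this.symm
  · rintro ⟨h, hh, k, hk, rfl⟩
    refine funext fun e => ?_
    refine (card_equiv k fun j => ?_).symm
    rw [mem_filter, mem_filter]
    simp only [mem_univ, true_and, Equiv.Perm.mul_apply]
    rw [hh (σ (k j)), hk j]

theorem range_youngInv {α β : Fin n → ℕ} {a b : Fin n → Fin n} (ha : ∀ p, (univ.filter fun i => a i = p).card = α p)
    (hb : ∀ p, (univ.filter fun i => b i = p).card = β p) : Set.range (youngInv a b) = {A | IsMarg univ α β A} :=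
  Set.ext fun A => ⟨fun ⟨σ, e⟩ => e ▸ youngInv_isMarg ha hb σ, fun hA => exists_youngInv ha hb hA⟩

/-- The number of pairs of orbits for Young subgroups. -/
theorem sum_young (α β : Fin n → ℕ) (hα : ∑ i, α i = n) (hβ : ∑ i, β i = n) :
    ∑ σ : Equiv.Perm (Fin n), fixedPointCharacter (youngSubgroup α) σ * fixedPointCharacter (youngSubgroup β) σ =
      (Nat.card (Equiv.Perm (Fin n)) : ℂ) * (margCount univ α β : ℂ) := by
  have hk : ∀ (μ : Fin n → ℕ) (hμ : ∑ i, μ i = n) (σ : Equiv.Perm (Fin n)),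
      σ ∈ youngSubgroup μ ↔ Keeps (compBlock μ hμ) σ := fun μ hμ σ => by
    refine forall_congr' fun i => ?_
    rw [compLabel_eq μ hμ, compLabel_eq μ hμ, Fin.val_inj]
  rw [sum_fixed_mul_fixed _ _ (youngInv (compBlock α hα) (compBlock β hβ)) fun σ σ' => ?_,
    range_youngInv (card_block α hα) (card_block β hβ)]
  · rfl
  · simp only [youngInv_eq_iff, hk α hα, hk β hβ]

section Linear

variable {F : Type*} [Field F]

theorem permGL_mem_parabolicGL (μ : Fin n → ℕ) {σ : Equiv.Perm (Fin n)} (h : σ ∈ youngSubgroup μ) :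
    (permGL σ : GL (Fin n) F) ∈ parabolicGL n F μ := by
  intro i j hij
  rw [permGL_apply, if_neg]
  rintro rfl
  rw [h j] at hij
  exact lt_irrefl _ hij

/-- The invariant kernels. -/
def cornerKer (a b : Fin n → ℕ) (P R : ℕ) (g : GL (Fin n) F) : Set (Fin n → F) :=
  {v | (∀ j, R ≤ b j → v j = 0) ∧ ∀ i, P ≤ a i → ((g : Matrix (Fin n) (Fin n) F) *ᵥ v) i = 0}

theorem card_cornerKer_permGL [Fintype F] (a b : Fin n → ℕ) (P R : ℕ) (σ : Equiv.Perm (Fin n)) :
    Nat.card (cornerKer a b P R (permGL σ : GL (Fin n) F)) =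
      Fintype.card F ^ (univ.filter fun j => b j < R ∧ a (σ j) < P).card := by
  classical
  have h : ∀ v : Fin n → F, v ∈ cornerKer a b P R (permGL σ : GL (Fin n) F) ↔
      ∀ j, ¬ (b j < R ∧ a (σ j) < P) → v j = 0 := by
    intro v
    refine ⟨fun hv j hj => ?_, fun hv => ⟨fun j hj => hv j (by omega), fun i hi => ?_⟩⟩
    · rcases not_and_or.mp hj with h | h
      · exact hv.1 j (not_lt.mp h)
      · rw [← permGL_mulVec σ v j]; exact hv.2 _ (not_lt.mp h)
    · rw [show i = σ (σ⁻¹ i) by simp, permGL_mulVec]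
      exact hv _ fun hc => absurd hi (not_le.mpr (by simpa using hc.2))
  rw [← Fintype.card_subtype, ← Fintype.card_fun, ← Nat.card_eq_fintype_card]
  refine Nat.card_congr ⟨fun v j => v.1 j.1,
    fun u => ⟨fun j => if hj : b j < R ∧ a (σ j) < P then u ⟨j, hj⟩ else 0, (h _).mpr fun j hj => dif_neg hj⟩, ?_, ?_⟩
  · intro v
    refine Subtype.ext (funext fun j => ?_)
    by_cases hj : b j < R ∧ a (σ j) < P
    · exact dif_pos hj
    · exact (dif_neg hj).trans ((h _).mp v.2 j hj).symm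
  · intro u
    exact funext fun j => dif_pos j.2

theorem mulVec_zero_of_tri {lab : Fin n → ℕ} {h : Matrix (Fin n) (Fin n) F} (hh : h.BlockTriangular lab) {P : ℕ}
    {v : Fin n → F} (hv : ∀ i, P ≤ lab i → v i = 0) : ∀ i, P ≤ lab i → (h *ᵥ v) i = 0 := by
  intro i hi
  show ∑ l, h i l * v l = 0
  refine sum_eq_zero fun l _ => ?_
  rcases lt_or_ge (lab l) (lab i) with hl | hl
  · exact mul_eq_zero_of_left (hh hl) _
  · exact mul_eq_zero_of_right _ (hv l (hi.trans hl))

theorem card_cornerKer_mul (α β : Fin n → ℕ) (P R : ℕ) {h k : GL (Fin n) F} (hh : h ∈ parabolicGL n F α)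
    (hk : k ∈ parabolicGL n F β) (g : GL (Fin n) F) :
    Nat.card (cornerKer (compLabel α) (compLabel β) P R (h * g * k)) =
      Nat.card (cornerKer (compLabel α) (compLabel β) P R g) := by
  refine Nat.card_congr ⟨fun v => ⟨(k : Matrix (Fin n) (Fin n) F) *ᵥ v.1,
      mulVec_zero_of_tri hk v.2.1, fun i hi => ?_⟩,
    fun v => ⟨((k⁻¹ : GL (Fin n) F) : Matrix (Fin n) (Fin n) F) *ᵥ v.1,
      mulVec_zero_of_tri (inv_mem hk) v.2.1, fun i hi => ?_⟩, fun v => ?_, fun v => ?_⟩
  · have := mulVec_zero_of_tri (inv_mem hh) v.2.2 i hi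
    rwa [Matrix.mulVec_mulVec, ← Units.val_mul, show h⁻¹ * (h * g * k) = g * k by simp [mul_assoc],
      Units.val_mul, ← Matrix.mulVec_mulVec] at this
  · have := mulVec_zero_of_tri hh v.2.2 i hi
    rw [Matrix.mulVec_mulVec, ← Units.val_mul] at this
    rwa [Matrix.mulVec_mulVec, ← Units.val_mul, show h * g * k * k⁻¹ = h * g by simp [mul_assoc]]
  · refine Subtype.ext ?_
    show ((k⁻¹ : GL (Fin n) F) : Matrix (Fin n) (Fin n) F) *ᵥ ((k : Matrix (Fin n) (Fin n) F) *ᵥ v.1) = v.1
    rw [Matrix.mulVec_mulVec, ← Units.val_mul, inv_mul_cancel, Units.val_one, Matrix.one_mulVec]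
  · refine Subtype.ext ?_
    show (k : Matrix (Fin n) (Fin n) F) *ᵥ (((k⁻¹ : GL (Fin n) F) : Matrix (Fin n) (Fin n) F) *ᵥ v.1) = v.1
    rw [Matrix.mulVec_mulVec, ← Units.val_mul, mul_inv_cancel, Units.val_one, Matrix.one_mulVec]

theorem youngInv_eq_of_coset [Fintype F] {α β : Fin n → ℕ} (hα : ∑ i, α i = n) (hβ : ∑ i, β i = n)
    {σ σ' : Equiv.Perm (Fin n)} {h k : GL (Fin n) F} (hh : h ∈ parabolicGL n F α) (hk : k ∈ parabolicGL n F β)
    (e : (permGL σ' : GL (Fin n) F) = h * permGL σ * k) :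
    youngInv (compBlock α hα) (compBlock β hβ) σ = youngInv (compBlock α hα) (compBlock β hβ) σ' := by
  classical
  set a := compBlock α hα with ha
  set b := compBlock β hβ with hb
  let c : Equiv.Perm (Fin n) → ℕ → ℕ → ℕ := fun τ P R => (univ.filter fun j => (b j : ℕ) < R ∧ (a (τ j) : ℕ) < P).card
  have hc : ∀ P R, c σ P R = c σ' P R := by
    intro P R
    have h1 := card_cornerKer_mul α β P R hh hk (permGL σ : GL (Fin n) F)
    rw [← e, card_cornerKer_permGL, card_cornerKer_permGL] at h1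
    have h2 := Nat.pow_right_injective Fintype.one_lt_card h1
    simp only [compLabel_eq α hα, compLabel_eq β hβ] at h2
    exact h2.symm
  have hd : ∀ τ (z : Fin n × Fin n), c τ (z.1 + 1) (z.2 + 1) + c τ z.1 z.2 =
      c τ z.1 (z.2 + 1) + c τ (z.1 + 1) z.2 + youngInv a b τ z := by
    intro τ z
    simp only [c, youngInv, card_filter, ← sum_add_distrib]
    refine sum_congr rfl fun j _ => ?_
    have e1 : a (τ j) = z.1 ↔ (a (τ j) : ℕ) = z.1 := Fin.ext_iff
    have e2 : b j = z.2 ↔ (b j : ℕ) = z.2 := Fin.ext_iff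
    simp only [e1, e2]
    split_ifs <;> omega
  refine funext fun z => ?_
  have h1 := hd σ z
  have h2 := hd σ' z
  simp only [hc] at h1
  omega

/-- The number of pairs of orbits for parabolic subgroups. -/
theorem sum_parabolicGL [Fintype F] [Fintype (GL (Fin n) F)] (α β : Fin n → ℕ) (hα : ∑ i, α i = n) (hβ : ∑ i, β i = n) :
    ∑ g : GL (Fin n) F, fixedPointCharacter (parabolicGL n F α) g * fixedPointCharacter (parabolicGL n F β) g =
      (Nat.card (GL (Fin n) F) : ℂ) * (margCount univ α β : ℂ) := by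
  classical
  choose h hh k hk σ hσ using exists_bruhat (F := F) (n := n)
  set Y := youngInv (compBlock α hα) (compBlock β hβ) with hY
  have hh' : ∀ g, h g ∈ parabolicGL n F α := fun g => upper_le_parabolicGL F α (hh g)
  have hk' : ∀ g, k g ∈ parabolicGL n F β := fun g => upper_le_parabolicGL F β (hk g)
  have hrange : Set.range (fun g => Y (σ g)) = Set.range Y := by
    refine Set.ext fun A => ⟨fun ⟨g, e⟩ => ⟨σ g, e⟩, fun ⟨τ, e⟩ => ⟨permGL τ, ?_⟩⟩
    show Y (σ (permGL τ)) = A
    rw [← e]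
    exact youngInv_eq_of_coset hα hβ (hh' _) (hk' _) (hσ (permGL τ))
  rw [sum_fixed_mul_fixed _ _ (fun g => Y (σ g)) fun g g' => ?_, hrange, hY,
    range_youngInv (card_block α hα) (card_block β hβ)]
  · rfl
  constructor
  · intro e
    obtain ⟨x, hx, y, hy, e'⟩ := (youngInv_eq_iff _ _ _ _).mp e
    have hX : (permGL x : GL (Fin n) F) ∈ parabolicGL n F α := permGL_mem_parabolicGL α fun i => by
      rw [compLabel_eq α hα, compLabel_eq α hα, hx i]
    have hYm : (permGL y : GL (Fin n) F) ∈ parabolicGL n F β := permGL_mem_parabolicGL β fun i => by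
      rw [compLabel_eq β hβ, compLabel_eq β hβ, hy i]
    refine ⟨h g' * permGL x * (h g)⁻¹, mul_mem (mul_mem (hh' g') hX) (inv_mem (hh' g)),
      (k g)⁻¹ * permGL y * k g', mul_mem (mul_mem (inv_mem (hk' g)) hYm) (hk' g'), ?_⟩
    calc g' = h g' * permGL (σ g') * k g' := hσ g'
      _ = h g' * (permGL x * permGL (σ g) * permGL y) * k g' := by rw [e', permGL_mul, permGL_mul]
      _ = h g' * permGL x * (h g)⁻¹ * (h g * permGL (σ g) * k g) * ((k g)⁻¹ * permGL y * k g') := by simp [mul_assoc]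
      _ = _ := by rw [← hσ g]
  · rintro ⟨x, hx, y, hy, e⟩
    refine youngInv_eq_of_coset (F := F) hα hβ (h := (h g')⁻¹ * x * h g) (k := k g * y * (k g')⁻¹)
      (mul_mem (mul_mem (inv_mem (hh' g')) hx) (hh' g)) (mul_mem (mul_mem (hk' g) hy) (inv_mem (hk' g'))) ?_
    rw [hσ g, hσ g'] at e
    calc (permGL (σ g') : GL (Fin n) F) = (h g')⁻¹ * (h g' * permGL (σ g') * k g') * (k g')⁻¹ := by simp [mul_assoc]
      _ = _ := by rw [e]; simp [mul_assoc]

end Linear

end Cfsg.Agent.UnipGL
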