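import Cfsg.Agent.Lib.UnipGL.DoubleCosets
import Cfsg.Agent.Lib.Char.Generalized
import Cfsg.Agent.Lib.Char.Taketa

/-!
The alternating-sum class functions of the general linear group: orthonormality and degrees.
-/

set_option autoImplicit false
set_option linter.style.haveILetI false

namespace Cfsg.Agent.UnipGL

open Finset Matrix Cfsg Cfsg.Agent.Char
open scoped ComplexConjugate

variable {n : ℕ} {F : Type*} [Field F]

theorem isGen_fixedPointCharacter {G : Type*} [Group G] [Fintype G] (H : Subgroup G) :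
    IsGeneralizedCharacter G (fixedPointCharacter H) := by
  have e : fixedPointCharacter H = indFun H (fun _ => (1 : ℂ)) :=
    funext fun g => (indFun_one_eq_card_fixed H g).symm
  rw [e]
  exact isGeneralizedCharacter_indFun H isGeneralizedCharacter_one

/-- The shifted parts `ν i + i`. -/
abbrev shifted (ν : Fin n → ℕ) (i : Fin n) : ℕ := ν i + i.val

theorem shifted_strictMono {ν : Fin n → ℕ} (h : Monotone ν) : StrictMono (shifted ν) := fun i j hij =>
  Nat.add_lt_add_of_le_of_lt (h hij.le) hij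

theorem sum_shifted_sub {ν : Fin n → ℕ} (hν : ∑ i, ν i = n) {κ : Equiv.Perm (Fin n)}
    (h : ∀ i, (κ i : ℕ) ≤ shifted ν i) : ∑ i, (shifted ν i - (κ i : ℕ)) = n := by
  rw [sum_tsub_distrib _ (fun i _ => h i), shifted_def_sum]
  rw [Equiv.sum_comp κ (fun i : Fin n => (i : ℕ)), hν, Nat.add_sub_cancel]
where
  shifted_def_sum : ∑ i, shifted ν i = ∑ i, ν i + ∑ i : Fin n, (i : ℕ) := sum_add_distrib

theorem unipotentCharacterGL_eq (ν : Fin n → ℕ) : unipotentCharacterGL n F ν =
    ∑ κ : Equiv.Perm (Fin n), if ∀ i, (κ i : ℕ) ≤ shifted ν i then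
      (((Equiv.Perm.sign κ : ℤ) : ℂ)) • fixedPointCharacter (parabolicGL n F fun i => shifted ν i - (κ i : ℕ)) else 0 := by
  funext g
  rw [Finset.sum_apply]
  refine sum_congr rfl fun κ _ => ?_
  rw [ite_apply]
  rfl

theorem isGen_unipotentCharacterGL [Fintype F] (ν : Fin n → ℕ) :
    IsGeneralizedCharacter (GL (Fin n) F) (unipotentCharacterGL n F ν) := by
  classical
  rw [unipotentCharacterGL_eq]
  refine isGeneralizedCharacter_sum _ _ fun κ _ => ?_
  split_ifs
  · exact isGeneralizedCharacter_intCast_smul (isGen_fixedPointCharacter _) _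
  · exact isGeneralizedCharacter_zero

/-- The alternating sums are orthonormal. -/
theorem classInner_unipotentCharacterGL [Fintype F] [Fintype (GL (Fin n) F)] {ν ν' : Fin n → ℕ} (hmono : Monotone ν)
    (hsum : ∑ i, ν i = n) (hmono' : Monotone ν') (hsum' : ∑ i, ν' i = n) :
    classInner (unipotentCharacterGL n F ν) (unipotentCharacterGL n F ν') = if ν = ν' then 1 else 0 := by
  classical
  have key := sum_sign_margCount_strictMono (shifted_strictMono hmono) (shifted_strictMono hmono')
  have hiff : shifted ν = shifted ν' ↔ ν = ν' :=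
    ⟨fun e => funext fun i => Nat.add_right_cancel (congrFun e i), fun e => by rw [e]⟩
  have hG : (Nat.card (GL (Fin n) F) : ℂ) ≠ 0 := Nat.cast_ne_zero.mpr Nat.card_pos.ne'
  have hreal : ∀ (H : Subgroup (GL (Fin n) F)) (g : GL (Fin n) F),
      conj (fixedPointCharacter H g) = fixedPointCharacter H g := fun H g => Complex.conj_natCast _
  have hterm : ∀ κ μ : Equiv.Perm (Fin n),
      classInner (if ∀ i, (κ i : ℕ) ≤ shifted ν i then
          (((Equiv.Perm.sign κ : ℤ) : ℂ)) • fixedPointCharacter (parabolicGL n F fun i => shifted ν i - (κ i : ℕ)) else 0)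
        (if ∀ i, (μ i : ℕ) ≤ shifted ν' i then
          (((Equiv.Perm.sign μ : ℤ) : ℂ)) • fixedPointCharacter (parabolicGL n F fun i => shifted ν' i - (μ i : ℕ)) else 0) =
      (((Equiv.Perm.sign κ : ℤ) * (Equiv.Perm.sign μ : ℤ) *
        (if (∀ i, (κ i : ℕ) ≤ shifted ν i) ∧ (∀ i, (μ i : ℕ) ≤ shifted ν' i) then
          (margCount univ (fun i => shifted ν i - (κ i : ℕ)) (fun i => shifted ν' i - (μ i : ℕ)) : ℤ) else 0) : ℤ) : ℂ) := by
    intro κ μ
    by_cases hκ : ∀ i, (κ i : ℕ) ≤ shifted ν i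
    · by_cases hμ : ∀ i, (μ i : ℕ) ≤ shifted ν' i
      · rw [if_pos hκ, if_pos hμ, if_pos ⟨hκ, hμ⟩, classInner_smul_left, classInner_smul_right, classInner]
        simp only [hreal]
        rw [sum_parabolicGL _ _ (sum_shifted_sub hsum hκ) (sum_shifted_sub hsum' hμ), inv_mul_cancel_left₀ hG]
        push_cast
        rw [map_intCast]
        ring
      · rw [if_neg hμ, classInner_zero_right, if_neg fun h => hμ h.2]; simp
    · rw [if_neg hκ, classInner_zero_left, if_neg fun h => hκ h.1]; simp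
  rw [unipotentCharacterGL_eq, unipotentCharacterGL_eq, classInner_sum_left]
  simp only [classInner_sum_right, hterm]
  rw [show (if ν = ν' then (1 : ℂ) else 0) = (((if ν = ν' then 1 else 0 : ℤ)) : ℂ) by split_ifs <;> simp]
  simp only [← Int.cast_sum]
  congr 1
  rw [key]
  simp only [hiff]

/-- The `q`-integer. -/
def qInt (q r : ℕ) : ℕ := ∑ l ∈ Finset.range r, q ^ l

/-- The `q`-factorial. -/
def qFact (q r : ℕ) : ℕ := ∏ j ∈ Finset.range r, qInt q (j + 1)

/-- The falling `q`-factorial. -/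
def qFall (q l k : ℕ) : ℕ := ∏ r ∈ Finset.range k, qInt q (l - r)

theorem qFact_eq (q : ℕ) : ∀ (l k : ℕ), k ≤ l → qFact q l = qFact q (l - k) * qFall q l k
  | l, 0, _ => by simp [qFall]
  | l, k + 1, h => by
    rw [qFact_eq q l k (by omega), qFall, qFall, Finset.prod_range_succ (fun r => qInt q (l - r)) k,
      show qFact q (l - k) = qFact q (l - (k + 1)) * qInt q (l - k) by
        rw [show l - k = (l - (k + 1)) + 1 by omega, qFact, qFact, Finset.prod_range_succ]]
    ring

theorem qFall_eq_zero {q l k : ℕ} (h : l < k) : qFall q l k = 0 :=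
  Finset.prod_eq_zero (Finset.mem_range.mpr h) (by simp [qInt])

theorem qFact_pos {q : ℕ} (hq : 0 < q) (r : ℕ) : 0 < qFact q r :=
  Finset.prod_pos fun j _ => Finset.sum_pos (fun l _ => pow_pos hq l) ⟨0, by simp⟩

theorem qInt_strictMono {q : ℕ} (hq : 0 < q) : StrictMono (qInt q) :=
  strictMono_nat_of_lt_succ fun r => by
    rw [qInt, qInt, Finset.sum_range_succ]; exact Nat.lt_add_of_pos_right (pow_pos hq r)

theorem pow_mul_qFall (q l : ℕ) : ∀ k : ℕ,
    (q : ℂ) ^ (∑ r ∈ Finset.range k, r) * (qFall q l k : ℂ) = ∏ r ∈ Finset.range k, ((qInt q l : ℂ) - (qInt q r : ℂ))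
  | 0 => by simp [qFall]
  | k + 1 => by
    rw [Finset.sum_range_succ, qFall, Finset.prod_range_succ, ← qFall, Finset.prod_range_succ, ← pow_mul_qFall q l k,
      pow_add, Nat.cast_mul]
    rcases le_or_gt k l with h | h
    · have e : qInt q l = qInt q k + q ^ k * qInt q (l - k) := by
        simp only [qInt, Finset.mul_sum, ← pow_add]
        rw [← Finset.sum_range_add, Nat.add_sub_cancel' h]
      rw [e]; push_cast; ring
    · simp [qFall_eq_zero h]

theorem sum_choose_two (m : ℕ) : (∑ j : Fin m, ∑ r ∈ Finset.range (j : ℕ), r) = m * (m - 1) * (m - 2) / 6 := by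
  have h : ∀ m : ℕ, (∑ j : Fin m, ∑ r ∈ Finset.range (j : ℕ), r) = m.choose 3 := by
    intro m
    induction m with
    | zero => simp
    | succ m ih =>
      rw [Fin.sum_univ_castSucc]
      simp only [Fin.val_castSucc, Fin.val_last]
      rw [ih, Finset.sum_range_id, ← Nat.choose_two_right, Nat.choose_succ_succ' m 2, add_comm]
  rw [h, Nat.choose_eq_descFactorial_div_factorial]
  simp [Nat.descFactorial_succ, Nat.factorial]
  ring_nf

/-- The degree formula. -/
theorem unipotentCharacterGL_one [Fintype F] {q : ℕ} (hq : Fintype.card F = q) (ν : Fin n → ℕ) (hsum : ∑ i, ν i = n) :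
    unipotentCharacterGL n F ν 1 * (q : ℂ) ^ (n * (n - 1) * (n - 2) / 6) * ∏ i, (qFact q (shifted ν i) : ℂ) =
      (qFact q n : ℂ) * ∏ i : Fin n, ∏ j ∈ Ioi i, ((qInt q (shifted ν j) : ℂ) - (qInt q (shifted ν i) : ℂ)) := by
  classical
  have hterm : ∀ κ : Equiv.Perm (Fin n),
      (if ∀ i, (κ i : ℕ) ≤ shifted ν i then ((Equiv.Perm.sign κ : ℤ) : ℂ) *
        fixedPointCharacter (parabolicGL n F fun i => shifted ν i - (κ i : ℕ)) 1 else 0) *
        ∏ i, (qFact q (shifted ν i) : ℂ) =
      (qFact q n : ℂ) * (((Equiv.Perm.sign κ : ℤ) : ℂ) * ∏ i, (qFall q (shifted ν i) (κ i) : ℂ)) := by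
    intro κ
    split_ifs with h
    · have hidx := Cfsg.Agent.S2420.result (F := F) hq _ (sum_shifted_sub hsum h)
      have e1 : fixedPointCharacter (parabolicGL n F fun i => shifted ν i - (κ i : ℕ)) 1 =
          (Nat.card (GL (Fin n) F ⧸ parabolicGL n F fun i => shifted ν i - (κ i : ℕ)) : ℂ) := by
        simp [fixedPointCharacter]
      have e2 : (qFact q n : ℂ) = (Nat.card (GL (Fin n) F ⧸ parabolicGL n F fun i => shifted ν i - (κ i : ℕ)) : ℂ) *
          ∏ i, (qFact q (shifted ν i - (κ i : ℕ)) : ℂ) := by exact_mod_cast hidx.symm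
      have e3 : ∀ i, (qFact q (shifted ν i) : ℂ) = (qFact q (shifted ν i - (κ i : ℕ)) : ℂ) * (qFall q (shifted ν i) (κ i) : ℂ) :=
        fun i => by exact_mod_cast qFact_eq q _ _ (h i)
      rw [e1, e2, prod_congr rfl fun i _ => e3 i, prod_mul_distrib]
      ring
    · push Not at h
      obtain ⟨i, hi⟩ := h
      rw [zero_mul, prod_eq_zero (mem_univ i) (by rw [qFall_eq_zero hi, Nat.cast_zero]), mul_zero, mul_zero]
  have hdet : ∑ κ : Equiv.Perm (Fin n), ((Equiv.Perm.sign κ : ℤ) : ℂ) * ∏ i, (qFall q (shifted ν i) (κ i) : ℂ) =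
      (Matrix.of fun i j : Fin n => (qFall q (shifted ν i) j : ℂ)).det := by
    rw [← Matrix.det_transpose, Matrix.det_apply']
    rfl
  have hscale : (q : ℂ) ^ (n * (n - 1) * (n - 2) / 6) * (Matrix.of fun i j : Fin n => (qFall q (shifted ν i) j : ℂ)).det =
      (Matrix.vandermonde fun i => (qInt q (shifted ν i) : ℂ)).det := by
    rw [← sum_choose_two, ← prod_pow_eq_pow_sum, ← Matrix.det_mul_row,
      Matrix.det_eval_matrixOfPolynomials_eq_det_vandermonde _
        (fun j : Fin n => ∏ r ∈ Finset.range (j : ℕ), (Polynomial.X - Polynomial.C (qInt q r : ℂ)))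
        (fun j => by
          rw [Polynomial.natDegree_prod_of_monic _ _ fun r _ => Polynomial.monic_X_sub_C _]
          simp only [Polynomial.natDegree_X_sub_C, Finset.sum_const, Finset.card_range, smul_eq_mul, mul_one])
        (fun j => Polynomial.monic_prod_of_monic _ _ fun r _ => Polynomial.monic_X_sub_C _)]
    congr 1
    ext i j
    simp [Polynomial.eval_prod, pow_mul_qFall]
  rw [← Matrix.det_vandermonde, ← hscale, ← hdet]
  simp only [unipotentCharacterGL]
  rw [mul_right_comm, sum_mul]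
  rw [sum_congr rfl fun κ _ => hterm κ, ← mul_sum]
  ring

theorem unipotentCharacterGL_one_pos [Fintype F] {ν : Fin n → ℕ} (hmono : Monotone ν) (hsum : ∑ i, ν i = n) :
    ∃ a b : ℕ, 0 < a ∧ 0 < b ∧ unipotentCharacterGL n F ν 1 * (a : ℂ) = (b : ℂ) := by
  classical
  set q := Fintype.card F with hq
  have hq0 : 0 < q := Fintype.card_pos
  have hle : ∀ i, ∀ j ∈ Ioi i, qInt q (shifted ν i) < qInt q (shifted ν j) := fun i j hj =>
    qInt_strictMono hq0 (shifted_strictMono hmono (mem_Ioi.mp hj))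
  refine ⟨q ^ (n * (n - 1) * (n - 2) / 6) * ∏ i, qFact q (shifted ν i),
    qFact q n * ∏ i : Fin n, ∏ j ∈ Ioi i, (qInt q (shifted ν j) - qInt q (shifted ν i)), ?_, ?_, ?_⟩
  · exact Nat.mul_pos (pow_pos hq0 _) (prod_pos fun i _ => qFact_pos hq0 _)
  · exact Nat.mul_pos (qFact_pos hq0 _) (prod_pos fun i _ => prod_pos fun j hj => Nat.sub_pos_of_lt (hle i j hj))
  · push_cast
    rw [← mul_assoc, unipotentCharacterGL_one hq.symm ν hsum]
    congr 1
    refine prod_congr rfl fun i _ => prod_congr rfl fun j hj => ?_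
    rw [Nat.cast_sub (hle i j hj).le]

/-- The alternating sums of partitions are irreducible. -/
theorem isIrr_unipotentCharacterGL [Fintype F] {ν : Fin n → ℕ} (hmono : Monotone ν) (hsum : ∑ i, ν i = n) :
    IsIrrCharacter (GL (Fin n) F) (unipotentCharacterGL n F ν) := by
  classical
  haveI := Fintype.ofFinite (GL (Fin n) F)
  refine (IsGeneralizedCharacter.irr_or_neg (isGen_unipotentCharacterGL ν)
    (by rw [classInner_unipotentCharacterGL hmono hsum hmono hsum, if_pos rfl])).resolve_right fun hn => ?_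
  obtain ⟨d, hd⟩ := IsCharacter.exists_degree (IsIrrCharacter.isCharacter hn)
  obtain ⟨a, b, ha, hb, hab⟩ := unipotentCharacterGL_one_pos (F := F) hmono hsum
  rw [Pi.neg_apply, neg_eq_iff_eq_neg] at hd
  rw [hd] at hab
  have : ((-(d : ℤ) * a : ℤ) : ℂ) = ((b : ℤ) : ℂ) := by push_cast; exact hab
  have := Int.cast_injective this
  nlinarith

end Cfsg.Agent.UnipGL
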